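import Groth.Agent.L17.BC.Exchange
import Groth.Agent.L17.BC.Criteria
import Mathlib.Algebra.Homology.Embedding.CochainComplex
import Mathlib.RingTheory.Flat.EquationalCriterion
import Mathlib.Algebra.Category.ModuleCat.Kernels

/-!
Finite projective complexes of prescribed amplitude computing cohomology and base change.
-/

set_option autoImplicit false
set_option linter.style.haveILetI false
set_option linter.unusedSectionVars false
set_option backward.isDefEq.respectTransparency false

universe u

open CategoryTheory CategoryTheory.Limits MonoidalCategory AlgebraicGeometry TopologicalSpace Opposite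
open scoped TensorProduct

noncomputable section

namespace Groth.L16.BaseChange

open Groth.L01.FlatCx Groth.L17.BC

variable {A : Type u} [CommRing A]

/-- Homology of the base changed complex is the tensor product homology. -/
theorem exists_addEquiv_bc (B : Type u) [CommRing B] [Algebra A B]
    (P : CochainComplex (ModuleCat.{u} A) ℤ) (j : ℤ) :
    Nonempty (((bc B P).homology j : Type u) ≃+ CohIII.T P j (ModuleCat.of A B)) := by
  let K := bc B P
  let M := ModuleCat.of A B
  let φ : Cyc' K j →+ (CohIII.TFun P j).obj M :=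
    AddMonoidHom.mk' (fun z => cls P j M ⟨sw B P j z.1, by
      show (dd P j _).rTensor B _ = 0
      rw [← sw_dd, show dd K j ((ComplexShape.up ℤ).next j) z.1 = 0 from z.2, map_zero]⟩)
      (fun a b => by
        rw [← map_add]
        exact congrArg _ (Subtype.ext (map_add _ _ _)))
  have hφ : Function.Surjective φ := fun w => by
    obtain ⟨x, rfl⟩ := cls_surjective P j M w
    refine ⟨⟨(sw B P j).symm x.1, (sw B P ((ComplexShape.up ℤ).next j)).injective ?_⟩, ?_⟩
    · rw [sw_dd, AddEquiv.apply_symm_apply, map_zero]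
      exact x.2
    · exact congrArg (cls P j M) (Subtype.ext ((sw B P j).apply_symm_apply x.1))
  have hker : (cls' K j).toAddMonoidHom.ker = φ.ker := by
    ext z
    show cls' K j z = 0 ↔ cls P j M _ = 0
    rw [cls_eq_zero_iff P (i := (ComplexShape.up ℤ).prev j) rfl,
      cls'_eq_zero_iff K (i := (ComplexShape.up ℤ).prev j) rfl]
    constructor
    · rintro ⟨y, hy⟩
      exact ⟨sw B P _ y, (sw_dd B P _ j y).symm.trans (congrArg _ hy)⟩
    · rintro ⟨y, hy⟩
      refine ⟨(sw B P _).symm y, (sw B P j).injective ?_⟩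
      rw [sw_dd, AddEquiv.apply_symm_apply]
      exact hy
  exact ⟨((QuotientAddGroup.quotientKerEquivOfSurjective (cls' K j).toAddMonoidHom
    (cls'_surjective K j)).symm.trans (QuotientAddGroup.quotientAddEquivOfEq hker)).trans
      (QuotientAddGroup.quotientKerEquivOfSurjective φ hφ)⟩

variable [IsNoetherianRing A]

theorem subsingleton_of_forall_mu (M : Type u) [AddCommGroup M] [Module A M] [Module.Finite A M]
    (h : ∀ x : PrimeSpectrum A, mu M x = 0) : Subsingleton M := by
  rw [← Module.support_eq_empty_iff (R := A)]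
  refine Set.eq_empty_iff_forall_notMem.2 fun x hx => ?_
  rw [Module.mem_support_iff_nontrivial_residueField_tensorProduct] at hx
  exact (Module.finrank_pos (R := x.asIdeal.ResidueField) (M := x.asIdeal.ResidueField ⊗[A] M)).ne' (h x)

/-- Finite projective cycles above the amplitude of the homology. -/
theorem projective_cycles (L : CochainComplex (ModuleCat.{u} A) ℤ)
    (hL : ∀ i, Module.Finite A (L.X i) ∧ Module.Projective A (L.X i)) (b n : ℤ)
    (hb : ∀ i, b < i → IsZero (L.X i)) (hex : ∀ i, n < i → L.ExactAt i) :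
    ∀ i, n ≤ i → Module.Finite A (L.cycles i) ∧ Module.Projective A (L.cycles i) := by
  suffices ∀ (k : ℕ) (i : ℤ), n ≤ i → b < i + k →
      Module.Finite A (L.cycles i) ∧ Module.Projective A (L.cycles i) from
    fun i hi => this (b + 1 - i).toNat i hi (by omega)
  intro k
  induction k with
  | zero =>
    intro i _ hi
    haveI := ModuleCat.subsingleton_of_isZero (IsZero.of_mono (L.iCycles i) (hb i (by omega)))
    exact ⟨inferInstance, inferInstance⟩
  | succ k ih =>
    intro i hi hi'
    obtain ⟨hf, hp⟩ := ih (i + 1) (by omega) (by omega)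
    haveI := (hL i).1
    haveI := (hL i).2
    have he : Function.Surjective (L.toCycles i (i + 1)).hom := by
      rw [← ModuleCat.epi_iff_surjective]
      refine Preadditive.epi_of_cancel_zero _ fun {Z} g hg => ?_
      obtain ⟨l, hl⟩ := CokernelCofork.IsColimit.desc' (L.homologyIsCokernel i (i + 1) (by simp)) g hg
      have hz : IsZero (L.homology (i + 1)) :=
        (HomologicalComplex.exactAt_iff_isZero_homology _ _).1 (hex (i + 1) (by omega))
      rw [← hl]
      exact (congrArg (fun q => _ ≫ q) (hz.eq_of_src l 0)).trans comp_zero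
    obtain ⟨s, hs⟩ := Module.projective_lifting_property (L.toCycles i (i + 1)).hom LinearMap.id he
    let f := (L.toCycles i (i + 1)).hom
    let π : (L.X i : Type u) →ₗ[A] LinearMap.ker f :=
      (LinearMap.id - s ∘ₗ f).codRestrict _ fun v => by
        show f (v - s (f v)) = 0
        rw [map_sub, sub_eq_zero]
        exact (LinearMap.congr_fun hs (f v)).symm
    have hπ : π ∘ₗ (LinearMap.ker f).subtype = LinearMap.id := LinearMap.ext fun v => Subtype.ext (by
      show (v : L.X i) - s (f v) = v
      rw [v.2, map_zero, sub_zero])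
    haveI : Module.Finite A (LinearMap.ker f) :=
      Module.Finite.of_surjective π fun v => ⟨v, LinearMap.congr_fun hπ v⟩
    haveI : Module.Projective A (LinearMap.ker f) := Module.Projective.of_split _ π hπ
    let e : L.cycles i ≅ ModuleCat.of A (LinearMap.ker f) :=
      IsLimit.conePointUniqueUpToIso (L.cyclesIsKernel i (i + 1) (by simp)) (kernelIsKernel (L.d i (i + 1))) ≪≫
        (kernelIsoOfEq (L.toCycles_i i (i + 1))).symm ≪≫
        kernelCompMono (L.toCycles i (i + 1)) (L.iCycles (i + 1)) ≪≫ ModuleCat.kernelIsoKer _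
    exact ⟨Module.Finite.equiv e.toLinearEquiv.symm, Module.Projective.of_equiv e.toLinearEquiv.symm⟩

/-- Truncation of a finite free complex to the amplitude allowed by its fibres. -/
theorem exists_truncation (L : CochainComplex (ModuleCat.{u} A) ℤ)
    (hL : ∀ i, Module.Finite A (L.X i) ∧ Module.Free A (L.X i)) (b : ℤ) (hb : ∀ i, b < i → IsZero (L.X i))
    (a d : ℤ) (hcoker : Module.Flat A (Coker L (a - 1) a))
    (hlow : ∀ i, i < a → IsZero (L.homology i)) (hhigh : ∀ i, d < i → IsZero (L.homology i)) :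
    ∃ P : CochainComplex (ModuleCat.{u} A) ℤ, (∀ i, Module.Finite A (P.X i) ∧ Module.Projective A (P.X i)) ∧
      (∀ i, i < a ∨ d < i → IsZero (P.X i)) ∧ ∀ (M : ModuleCat.{u} A) (i : ℤ),
        Nonempty (CohIII.T L i M ≅ CohIII.T P i M) := by
  haveI : L.IsGE a := (CochainComplex.isGE_iff L a).2 fun i hi =>
    (HomologicalComplex.exactAt_iff_isZero_homology _ _).2 (hlow i hi)
  let L₁ := L.truncGE a
  let π := L.πTruncGE a
  haveI : QuasiIso π := inferInstance
  have hL₁ : ∀ i, Module.Finite A (L₁.X i) ∧ Module.Projective A (L₁.X i) := by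
    intro i
    rcases lt_trichotomy i a with hi | rfl | hi
    · haveI := ModuleCat.subsingleton_of_isZero (CochainComplex.isZero_of_isStrictlyGE L₁ a i hi)
      exact ⟨inferInstance, inferInstance⟩
    · haveI := (hL i).1
      haveI : Module.FinitePresentation A (Coker L (i - 1) i) := Module.finitePresentation_of_finite A _
      haveI : Module.Projective A (Coker L (i - 1) i) := Module.Flat.projective_of_finitePresentation
      let e : L₁.X i ≅ ModuleCat.of A (Coker L (i - 1) i) :=
        L.truncGEXIsoOpcycles i ≪≫ IsColimit.coconePointUniqueUpToIso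
          (L.opcyclesIsCokernel (i - 1) i (by simp)) (cokernelIsCokernel (L.d (i - 1) i)) ≪≫
          ModuleCat.cokernelIsoRangeQuotient (L.d (i - 1) i)
      exact ⟨Module.Finite.equiv e.toLinearEquiv.symm, Module.Projective.of_equiv e.toLinearEquiv.symm⟩
    · haveI := (hL i).1
      haveI := (hL i).2
      let e := (L.truncGEXIso a i hi).toLinearEquiv
      exact ⟨Module.Finite.equiv e.symm, Module.Projective.of_equiv e.symm⟩
  have hb₁ : ∀ i, max b a < i → IsZero (L₁.X i) := fun i hi =>
    (hb i (by omega)).of_iso (L.truncGEXIso a i (by omega))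
  have hex : ∀ i, d < i → L₁.ExactAt i := fun i hi =>
    (HomologicalComplex.exactAt_iff_isZero_homology _ _).2 ((hhigh i hi).of_iso (isoOfQuasiIsoAt π i).symm)
  let P := L₁.truncLE d
  let ι := L₁.ιTruncLE d
  haveI : QuasiIso ι := by
    rw [CochainComplex.quasiIso_ιTruncLE_iff, CochainComplex.isLE_iff]
    exact hex
  have hP : ∀ i, Module.Finite A (P.X i) ∧ Module.Projective A (P.X i) := by
    intro i
    rcases lt_trichotomy i d with hi | rfl | hi
    · haveI := (hL₁ i).1
      haveI := (hL₁ i).2
      let e := (L₁.truncLEXIso d i hi).toLinearEquiv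
      exact ⟨Module.Finite.equiv e.symm, Module.Projective.of_equiv e.symm⟩
    · obtain ⟨hf, hp⟩ := projective_cycles L₁ hL₁ _ i hb₁ hex i le_rfl
      let e := (L₁.truncLEXIsoCycles i).toLinearEquiv
      exact ⟨Module.Finite.equiv e.symm, Module.Projective.of_equiv e.symm⟩
    · haveI := ModuleCat.subsingleton_of_isZero (CochainComplex.isZero_of_isStrictlyLE P d i hi)
      exact ⟨inferInstance, inferInstance⟩
  refine ⟨P, hP, fun i hi => ?_, fun M i => ?_⟩
  · rcases hi with hi | hi
    · rcases lt_trichotomy i d with h | rfl | h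
      · exact (CochainComplex.isZero_of_isStrictlyGE L₁ a i hi).of_iso (L₁.truncLEXIso d i h)
      · exact (IsZero.of_mono (L₁.iCycles i) (CochainComplex.isZero_of_isStrictlyGE L₁ a i hi)).of_iso
          (L₁.truncLEXIsoCycles i)
      · exact CochainComplex.isZero_of_isStrictlyLE P d i h
    · exact CochainComplex.isZero_of_isStrictlyLE P d i hi
  have hflat : ∀ (C : CochainComplex (ModuleCat.{u} A) ℤ),
      (∀ i, Module.Finite A (C.X i) ∧ Module.Projective A (C.X i)) → ∀ i, Module.Flat A (C.X i) := fun C hC i =>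
    haveI := (hC i).2
    inferInstance
  have hLflat : ∀ i, Module.Flat A (L.X i) := fun i => haveI := (hL i).2; inferInstance
  have hz : ∀ (C : CochainComplex (ModuleCat.{u} A) ℤ) (N : ℤ), (∀ j, N < j → IsZero (C.X j)) →
      ∀ (M : ModuleCat.{u} A) (j : ℤ), N < j → IsZero (CohIII.T C j M) := fun C N hC M j hj =>
    (HomologicalComplex.exactAt_iff_isZero_homology _ _).1 (ShortComplex.exact_of_isZero_X₂ _
      ((tensorRight M).map_isZero (hC j hj)))
  have q₁ : QuasiIso (((tensorRight M).mapHomologicalComplex (ComplexShape.up ℤ)).map π) :=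
    FlatModel.quasiIso_tensor π hLflat (hflat L₁ hL₁) (max b a)
    (hz L _ fun j hj => hb j (by omega)) (hz L₁ _ hb₁) M
  have q₂ : QuasiIso (((tensorRight M).mapHomologicalComplex (ComplexShape.up ℤ)).map ι) :=
    FlatModel.quasiIso_tensor ι (hflat P hP) (hflat L₁ hL₁) (max (max b a) d)
    (hz P _ fun j hj => CochainComplex.isZero_of_isStrictlyLE P d j (by omega))
    (hz L₁ _ fun j hj => hb₁ j (by omega)) M
  exact ⟨@isoOfQuasiIsoAt _ _ _ _ _ _ _ (((tensorRight M).mapHomologicalComplex _).map π) i _ _ (q₁.quasiIsoAt i) ≪≫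
    (@isoOfQuasiIsoAt _ _ _ _ _ _ _ (((tensorRight M).mapHomologicalComplex _).map ι) i _ _ (q₂.quasiIsoAt i)).symm⟩

/-- The statement for a flat coherent module on a proper scheme. -/
theorem exists_amplitude_complex {X : Scheme.{u}} [X.Over (Spec (CommRingCat.of A))]
    [IsProper (X ↘ Spec (CommRingCat.of A))] {F : X.Modules} (hF : Coh.IsCoh F)
    (hfl : FlatMod.IsFlatOver (X ↘ Spec (CommRingCat.of A)) F) (d' d : ℕ)
    (hd : ∀ p : ℕ, d < p → Subsingleton (Coh.HH X F p))
    (hd' : ∀ (y : ↑(Spec (CommRingCat.of A))) (p : ℕ), p < d' →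
      Subsingleton (CohIII.fiberH (X ↘ Spec (CommRingCat.of A)) F y p)) :
    ∃ L : CochainComplex (ModuleCat.{u} A) ℤ,
      (∀ i, Module.Finite A (L.X i) ∧ Module.Projective A (L.X i)) ∧
      (∀ i : ℤ, i < (d' : ℤ) ∨ (d : ℤ) < i → IsZero (L.X i)) ∧
      ((∀ p : ℕ, Subsingleton (Coh.HH X F p)) → ∀ i, IsZero (L.X i)) ∧
      ∀ (B : Type u) [CommRing B] [Algebra A B] (p : ℕ),
        Nonempty (Coh.HH (pullback (X ↘ Spec (CommRingCat.of A)) (Spec.map (CommRingCat.ofHom (algebraMap A B))))
            ((Scheme.Modules.pullback (pullback.fst (X ↘ Spec (CommRingCat.of A))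
              (Spec.map (CommRingCat.ofHom (algebraMap A B))))).obj F) p ≃+
          CohIII.T L (p : ℤ) (ModuleCat.of A B)) := by
  classical
  haveI : Coh.IsQCoh F := hF.1
  let f := X ↘ Spec (CommRingCat.of A)
  obtain ⟨m⟩ := nonempty_model f F hF (fun V hV => flat_sec f F hfl hV)
  have hLf : ∀ i, Module.Finite A (m.L.X i) ∧ Module.Flat A (m.L.X i) := fun i =>
    ⟨(m.finiteFree i).1, m.flat_X i⟩
  haveI : ∀ i, Module.Finite A (m.L.X i) := fun i => (m.finiteFree i).1
  have key : ∀ i : ℤ, i < (d' : ℤ) → (∀ x, Crit.FreeC m.L i x) ∧ IsZero (m.L.homology i) := by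
    intro i hi
    obtain ⟨j, rfl⟩ : ∃ j, i = j + 1 := ⟨i - 1, by omega⟩
    rcases lt_or_ge (j + 1) 0 with h0 | h0
    · have h := fun M => m.isZero_T_of_neg M h0
      haveI : Subsingleton ((CohIII.TFun m.L (j + 1)).obj (ModuleCat.of A A)) :=
        ModuleCat.subsingleton_of_isZero (h (ModuleCat.of A A))
      exact ⟨fun x => (Crit.freeC_of_isZero_T m.L hLf h x).2, @ModuleCat.isZero_of_subsingleton A _ _
        (unitEquiv m.L (j + 1)).symm.toEquiv.subsingleton⟩
    · obtain ⟨p, hp⟩ : ∃ p : ℕ, j + 1 = p := ⟨(j + 1).toNat, (Int.toNat_of_nonneg h0).symm⟩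
      have h0' : ∀ x, CohIII.dRank m.L (j + 1) x = 0 := fun x => by
        haveI := hd' (x : Spec (CommRingCat.of A)) p (by omega)
        rw [hp, ← Exchange.fiberRank_eq_dRank m (x : Spec (CommRingCat.of A)) p]
        exact Module.finrank_zero_of_subsingleton
      refine ⟨fun x => (Crit.freeC_of_dRank_eq_zero m.L hLf x (h0' x)).2, ?_⟩
      haveI : Module.Finite A (m.L.homology (j + 1)) := by
        have hi : (ComplexShape.up ℤ).prev (j + 1) = j := Crit.prev_eq j
        obtain ⟨g, hg, -⟩ := exists_homology_toCoker m.L hi (Crit.next_eq (j + 1))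
        haveI : Module.Finite A ((CohIII.TFun m.L (j + 1)).obj (ModuleCat.of A A)) := Module.Finite.of_injective g hg
        exact Module.Finite.equiv (unitEquiv m.L (j + 1))
      haveI := subsingleton_of_forall_mu (A := A) (m.L.homology (j + 1) : Type u) fun x => by
        obtain ⟨h1, h2⟩ := Crit.freeC_of_dRank_eq_zero m.L hLf x (h0' x)
        exact ((Crit.mem_freeLocus_homology m.L hLf x h1 h2).2).symm.trans (h0' x)
      exact ModuleCat.isZero_of_subsingleton _
  have hcoker : Module.Flat A (Coker m.L ((d' : ℤ) - 1) d') := by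
    obtain ⟨c, hc⟩ : ∃ c, (d' : ℤ) = c + 1 := ⟨(d' : ℤ) - 1, by omega⟩
    have h : ∀ x, Crit.FreeC m.L c x := (key c (by omega)).1
    rw [hc, show c + 1 - 1 = c by omega]
    haveI : Module.FinitePresentation A (Coker m.L c (c + 1)) := Module.finitePresentation_of_finite A _
    haveI : Module.Projective A (Coker m.L c (c + 1)) := Module.freeLocus_eq_univ_iff.1 (Set.eq_univ_of_forall h)
    infer_instance
  have hH : ∀ p : ℕ, Subsingleton (Coh.HH X F p) → IsZero (m.L.homology (p : ℤ)) := fun p hp => by
    obtain ⟨e⟩ := m.exists_equiv_self p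
    haveI : Subsingleton (m.L.homology (p : ℤ)) := e.toEquiv.subsingleton
    exact ModuleCat.isZero_of_subsingleton _
  have hhigh : ∀ i, (d : ℤ) < i → IsZero (m.L.homology i) := fun i hi => by
    obtain ⟨p, rfl⟩ : ∃ p : ℕ, i = p := ⟨i.toNat, (Int.toNat_of_nonneg (by omega)).symm⟩
    exact hH p (hd p (by omega))
  obtain ⟨P, hP, hPz, hPT⟩ := exists_truncation m.L m.finiteFree m.top m.isZero_above d' d hcoker
    (fun i hi => (key i hi).2) hhigh
  have hB : ∀ (B : Type u) [CommRing B] [Algebra A B] (p : ℕ),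
      Nonempty (Coh.HH (pullback f (Spec.map (CommRingCat.ofHom (algebraMap A B))))
        ((Scheme.Modules.pullback (pullback.fst f (Spec.map (CommRingCat.ofHom (algebraMap A B))))).obj F) p ≃+
          CohIII.T m.L (p : ℤ) (ModuleCat.of A B)) := fun B _ _ p => by
    obtain ⟨e⟩ := m.exists_equiv (B := B) (pullback.snd f _) (pullback.fst f _)
      (IsPullback.of_hasPullback f (Spec.map (CommRingCat.ofHom (algebraMap A B)))) p
    obtain ⟨e'⟩ := exists_addEquiv_bc B m.L (p : ℤ)
    exact ⟨e.toAddEquiv.symm.trans e'⟩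
  by_cases hall : ∀ p : ℕ, Subsingleton (Coh.HH X F p)
  · let Z : CochainComplex (ModuleCat.{u} A) ℤ := HomologicalComplex.zero
    have hZ : ∀ i, IsZero (Z.X i) := fun i =>
      (HomologicalComplex.eval (ModuleCat.{u} A) (ComplexShape.up ℤ) i).map_isZero HomologicalComplex.isZero_zero
    have hm : ∀ i, IsZero (m.L.homology i) := fun i => by
      rcases lt_or_ge i 0 with h | h
      · exact (key i (by omega)).2
      · obtain ⟨p, rfl⟩ : ∃ p : ℕ, i = p := ⟨i.toNat, (Int.toNat_of_nonneg h).symm⟩
        exact hH p (hall p)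
    refine ⟨Z, fun i => ?_, fun i _ => hZ i, fun _ => hZ, fun B _ _ p => ?_⟩
    · haveI := ModuleCat.subsingleton_of_isZero (hZ i)
      exact ⟨inferInstance, inferInstance⟩
    obtain ⟨e⟩ := hB B p
    have h1 : IsZero (CohIII.T m.L (p : ℤ) (ModuleCat.of A B)) :=
      FlatModel.isZero_T_of_exact m.L m.flat_X hm m.top (fun M i hi => m.isZero_T_of_gt M hi) _ _
    have h2 : IsZero (CohIII.T Z (p : ℤ) (ModuleCat.of A B)) :=
      (HomologicalComplex.exactAt_iff_isZero_homology _ _).1 (ShortComplex.exact_of_isZero_X₂ _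
        ((tensorRight (ModuleCat.of A B)).map_isZero (hZ _)))
    exact ⟨e.trans (h1.iso h2).toLinearEquiv.toAddEquiv⟩
  · refine ⟨P, hP, hPz, fun h => absurd h hall, fun B _ _ p => ?_⟩
    obtain ⟨e⟩ := hB B p
    obtain ⟨t⟩ := hPT (ModuleCat.of A B) (p : ℤ)
    exact ⟨e.trans t.toLinearEquiv.toAddEquiv⟩

end Groth.L16.BaseChange
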