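import Groth.Agent.L17.BC.Exchange
import Groth.Agent.L17.BC.Criteria
import Mathlib.RingTheory.DiscreteValuationRing.Basic
import Mathlib.RingTheory.Flat.TorsionFree

/-!
Fibre dimensions of cohomology over a discrete valuation ring.
-/

set_option autoImplicit false
set_option linter.style.haveILetI false
set_option linter.unusedSectionVars false
set_option backward.isDefEq.respectTransparency false

universe u

open CategoryTheory CategoryTheory.Limits MonoidalCategory AlgebraicGeometry TopologicalSpace Opposite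
open scoped TensorProduct

noncomputable section

namespace Groth.L16.BaseChange

open Groth.L01.FlatCx Groth.L17.BC

variable {R : Type u} [CommRing R] [IsDomain R] [IsDiscreteValuationRing R]

theorem eq_closedPoint {x : PrimeSpectrum R} (hx : x.asIdeal ≠ ⊥) : x = IsLocalRing.closedPoint R :=
  PrimeSpectrum.ext (IsLocalRing.eq_maximalIdeal (IsPrime.to_maximal_ideal hx))

theorem free_iff_mu_eq (M : Type u) [AddCommGroup M] [Module R M] [Module.Finite R M] :
    Module.Free R M ↔ mu M (IsLocalRing.closedPoint R) = mu M (⊥ : PrimeSpectrum R) := by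
  constructor
  · intro h
    rw [mu_eq_rankAtStalk, mu_eq_rankAtStalk, Module.rankAtStalk_eq_finrank_of_free]
    rfl
  · intro h
    refine free_of_mu_minimal M fun q hq => ?_
    rw [IsDomain.minimalPrimes_eq_singleton_bot, Set.mem_singleton_iff] at hq
    rw [h]
    exact congrArg _ (PrimeSpectrum.ext hq)

variable (L : CochainComplex (ModuleCat.{u} R) ℤ)

theorem free_coker_iff (hL : ∀ i, Module.Finite R (L.X i) ∧ Module.Free R (L.X i)) {i j k : ℤ}
    (hi : i + 1 = j) (hk : j + 1 = k) :
    Module.Free R (Coker L i j) ↔ Module.Free R ((CohIII.TFun L j).obj (ModuleCat.of R R)) := by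
  haveI := (hL k).2
  haveI := (hL j).1
  haveI : Module.Flat R (LinearMap.range (dd L j k)) := inferInstance
  have hi' : (ComplexShape.up ℤ).prev j = i := (ComplexShape.up ℤ).prev_eq' hi
  have hk' : (ComplexShape.up ℤ).next j = k := (ComplexShape.up ℤ).next_eq' hk
  obtain ⟨f, hf, -⟩ := exists_homology_toCoker L hi' hk'
  haveI : Module.Finite R ((CohIII.TFun L j).obj (ModuleCat.of R R)) := Module.Finite.of_injective f hf
  have h := flat_coker_iff L hi' hk'
  exact ⟨fun _ => by haveI := h.1 inferInstance; exact Module.free_of_flat_of_isLocalRing,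
    fun _ => by haveI := h.2 inferInstance; exact Module.free_of_flat_of_isLocalRing⟩

/-- Equality of fibre dimensions means freeness of two neighbouring homology modules. -/
theorem dRank_eq_iff (hL : ∀ i, Module.Finite R (L.X i) ∧ Module.Free R (L.X i)) {j k : ℤ} (hjk : j + 1 = k) :
    CohIII.dRank L j (IsLocalRing.closedPoint R) = CohIII.dRank L j (⊥ : PrimeSpectrum R) ↔
      Module.Free R ((CohIII.TFun L j).obj (ModuleCat.of R R)) ∧
        Module.Free R ((CohIII.TFun L k).obj (ModuleCat.of R R)) := by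
  haveI := (hL j).1
  haveI := (hL k).1
  haveI := (hL k).2
  have hp : (ComplexShape.up ℤ).prev j = j - 1 := CochainComplex.prev _ _
  have hn : (ComplexShape.up ℤ).next j = k := (ComplexShape.up ℤ).next_eq' hjk
  have h1 := dRank_add_mu L hp hn (IsLocalRing.closedPoint R)
  have h2 := dRank_add_mu L hp hn (⊥ : PrimeSpectrum R)
  have hF : mu (L.X k) (IsLocalRing.closedPoint R) = mu (L.X k) (⊥ : PrimeSpectrum R) :=
    (free_iff_mu_eq _).1 inferInstance
  have h3 := mu_le_of_le (Coker L (j - 1) j) (bot_le : (⊥ : PrimeSpectrum R) ≤ IsLocalRing.closedPoint R)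
  have h4 := mu_le_of_le (Coker L j k) (bot_le : (⊥ : PrimeSpectrum R) ≤ IsLocalRing.closedPoint R)
  rw [← free_coker_iff L hL (sub_add_cancel j 1) hjk, ← free_coker_iff L hL hjk rfl, free_iff_mu_eq, free_iff_mu_eq]
  omega

/-- The statement for a flat coherent module on a proper scheme over the ring. -/
theorem fiberRank_eq_iff {X : Scheme.{u}} [X.Over (Spec (CommRingCat.of R))]
    [IsProper (X ↘ Spec (CommRingCat.of R))] {F : X.Modules} (hF : Coh.IsCoh F)
    (hfl : FlatMod.IsFlatOver (X ↘ Spec (CommRingCat.of R)) F) (p : ℕ) (s : Spec (CommRingCat.of R))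
    (hs : s ≠ genericPoint ↥(Spec (CommRingCat.of R))) :
    CohIII.fiberRank (X ↘ Spec (CommRingCat.of R)) F p s =
        CohIII.fiberRank (X ↘ Spec (CommRingCat.of R)) F p (genericPoint ↥(Spec (CommRingCat.of R))) ↔
      Module.Free R (Coh.HH X F p) ∧ Module.Free R (Coh.HH X F (p + 1)) := by
  haveI : Coh.IsQCoh F := hF.1
  let f := X ↘ Spec (CommRingCat.of R)
  obtain ⟨m⟩ := nonempty_model f F hF (fun V hV => flat_sec f F hfl hV)
  haveI := m.finite
  have hgen : genericPoint ↥(Spec (CommRingCat.of R)) = (⊥ : PrimeSpectrum R) :=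
    genericPoint_eq_bot_of_affine (CommRingCat.of R)
  have hs' : s = IsLocalRing.closedPoint R :=
    eq_closedPoint (x := (show PrimeSpectrum R from s)) fun h =>
      hs ((PrimeSpectrum.ext h : (show PrimeSpectrum R from s) = ⊥).trans hgen.symm)
  have he : ∀ q : ℕ, Module.Free R ((CohIII.TFun m.L (q : ℤ)).obj (ModuleCat.of R R)) ↔
      Module.Free R (Coh.HH X F q) := fun q => by
    haveI := (m.quasiIso (ModuleCat.of R R)).quasiIsoAt (q : ℤ)
    obtain ⟨e⟩ := exists_homology_equiv (Coh.toGlobal f) F m.U m.cover m.affine q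
    let e' : ((CohIII.TFun m.L (q : ℤ)).obj (ModuleCat.of R R) : Type u) ≃ₗ[R] Coh.HH X F q :=
      (isoOfQuasiIsoAt (((tensorRight (ModuleCat.of R R)).mapHomologicalComplex _).map m.φ) (q : ℤ)).toLinearEquiv
        ≪≫ₗ unitEquiv _ (q : ℤ) ≪≫ₗ e
    exact ⟨fun _ => Module.Free.of_equiv e', fun _ => Module.Free.of_equiv e'.symm⟩
  rw [Exchange.fiberRank_eq_dRank m s p, Exchange.fiberRank_eq_dRank m _ p, hs', hgen]
  exact (dRank_eq_iff m.L m.finiteFree (k := ((p + 1 : ℕ) : ℤ)) (by push_cast; ring)).trans
    ((he p).and (he (p + 1)))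

end Groth.L16.BaseChange
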