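import Groth.Agent.L17.BC.TensorAHom
import Groth.Agent.L17.BC.Exchange

/-!
Exactness of the cohomology functors of a flat module is inherited by base changes.
-/

set_option autoImplicit false
set_option linter.style.haveILetI false
set_option linter.unusedSectionVars false
set_option backward.isDefEq.respectTransparency false

universe u

open CategoryTheory CategoryTheory.Limits MonoidalCategory AlgebraicGeometry TopologicalSpace Opposite
open scoped TensorProduct

noncomputable section

namespace Groth.L16.BaseChange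

open Groth.L01.FlatCx Groth.L17.BC

variable {A B : Type u} [CommRing A] [IsNoetherianRing A] [CommRing B] [Algebra A B] {X X' : Scheme.{u}}
  [X.Over (Spec (CommRingCat.of A))] [X'.Over (Spec (CommRingCat.of B))]
  [IsProper (X ↘ Spec (CommRingCat.of A))] (g : X' ⟶ X)
  (hsq : IsPullback g (X' ↘ Spec (CommRingCat.of B)) (X ↘ Spec (CommRingCat.of A))
    (Spec.map (CommRingCat.ofHom (algebraMap A B))))

include hsq in
/-- The functors of the base change are those of the base changed complex. -/
theorem nonempty_iso_bc (F : X.Modules) [Coh.IsQCoh F] (m : Model (X ↘ Spec (CommRingCat.of A)) F)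
    (hfl : ∀ V : X.Opens, IsAffineOpen V → Module.Flat A (Sec (Coh.toGlobal (X ↘ Spec (CommRingCat.of A))) F V))
    (p : ℕ) :
    Nonempty (CohIII.tensorAFunctor B ((Scheme.Modules.pullback g).obj F) ⋙ CohIII.HAb X' p ≅
      CohIII.TFun (bc B m.L) (p : ℤ) ⋙ forget₂ (ModuleCat.{u} B) AddCommGrpCat.{u}) := by
  let f := X ↘ Spec (CommRingCat.of A)
  let f' := X' ↘ Spec (CommRingCat.of B)
  haveI := m.finite
  haveI := isAffineHom_of_isPullback f f' g hsq
  obtain ⟨e⟩ := nonempty_bcCx_iso g (Coh.toGlobal f) (Coh.toGlobal f') F (compat_of_isPullback f f' g hsq) m.U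
    (hasBC_of_isPullback f f' g hsq F) m.affine
  haveI hq : Coh.IsQCoh (Fb g F) := Groth.L16.AffineBC.isQCoh_pullback g F
  haveI : Coh.IsQCoh ((Scheme.Modules.pullback g).obj F) := hq
  have hcov' : ⨆ i, Ub g m.U i = ⊤ := top_unique fun x _ => by
    obtain ⟨i, hi⟩ := Opens.mem_iSup.1 (m.cover.ge (Opens.mem_top (g x)))
    exact Opens.mem_iSup.2 ⟨i, hi⟩
  have haff' := isAffineOpen_iInf_preimage g m.U m.affine
  obtain ⟨e₁⟩ := TensorA.nonempty_G_one B X' ((Scheme.Modules.pullback g).obj F)
  haveI := quasiIso_bc B m.φ (m.quasiIso _)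
  haveI : IsIso (mapK (TensorA.ρ B X') (Ub g m.U) e₁.inv) :=
    ⟨mapK (TensorA.ρ B X') (Ub g m.U) e₁.hom, by
      refine HomologicalComplex.hom_ext _ _ fun i => ModuleCat.hom_ext (LinearMap.ext fun z => ?_)
      exact (Cochains.mapC_comp (TensorA.ρ B X') (Ub g m.U) e₁.inv e₁.hom i z).trans
        ((congrArg (fun k => Cochains.mapC (TensorA.ρ B X') (Ub g m.U) k i z) e₁.inv_hom_id).trans (funext fun b => rfl)), by
      refine HomologicalComplex.hom_ext _ _ fun i => ModuleCat.hom_ext (LinearMap.ext fun z => ?_)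
      exact (Cochains.mapC_comp (TensorA.ρ B X') (Ub g m.U) e₁.hom e₁.inv i z).trans
        ((congrArg (fun k => Cochains.mapC (TensorA.ρ B X') (Ub g m.U) k i z) e₁.hom_inv_id).trans (funext fun b => rfl))⟩
  let φ' : bc B m.L ⟶ K (Coh.toGlobal f') (Fb g F) (Ub g m.U) :=
    ((ModuleCat.extendScalars (algebraMap A B)).mapHomologicalComplex (ComplexShape.up ℤ)).map m.φ ≫ e.hom
  refine TensorA.nonempty_iso_TFun (Fb g F) (Ub g m.U) haff' (bc B m.L)
    (φ' ≫ mapK (TensorA.ρ B X') (Ub g m.U) e₁.inv) (fun M => ?_) hcov' p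
  haveI hφ : QuasiIso φ' := by
    dsimp only [φ']
    infer_instance
  have hK : ∀ i, Module.Flat B ((K (Coh.toGlobal f') (Fb g F) (Ub g m.U)).X i) := fun i => by
    haveI : Module.Flat B ((bc B (K (Coh.toGlobal f) F m.U)).X i) :=
      flat_bc B (K (Coh.toGlobal f) F m.U) (fun i => flat_K f m.U F hfl m.affine i) i
    exact Module.Flat.of_linearEquiv (M := (bc B (K (Coh.toGlobal f) F m.U)).X i)
      ((HomologicalComplex.eval _ _ i).mapIso e).toLinearEquiv.symm
  haveI h1 : QuasiIso (((tensorRight M).mapHomologicalComplex (ComplexShape.up ℤ)).map φ') := by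
    refine FlatModel.quasiIso_tensor φ' (fun i => flat_bc B m.L m.flat_X i) hK (max m.top (Nat.card m.ι))
      (fun M i hi => ?_) (fun M i hi => isZero_T_K f' (Ub g m.U) (Fb g F) hcov' haff' M i
        ((le_max_right m.top _).trans hi.le)) M
    refine (HomologicalComplex.exactAt_iff_isZero_homology _ _).1 (ShortComplex.exact_of_isZero_X₂ _
      ((tensorRight M).map_isZero ?_))
    exact (ModuleCat.extendScalars (algebraMap A B)).map_isZero (m.isZero_above i (lt_of_le_of_lt (le_max_left _ _) hi))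
  rw [Functor.map_comp]
  refine ⟨fun i => (quasiIsoAt_iff_isIso_homologyMap _ i).2 ?_⟩
  rw [HomologicalComplex.homologyMap_comp]
  haveI : IsIso (((tensorRight M).mapHomologicalComplex (ComplexShape.up ℤ)).map
      (mapK (TensorA.ρ B X') (Ub g m.U) e₁.inv)) := Functor.map_isIso _ _
  haveI : IsIso (HomologicalComplex.homologyMap
      (((tensorRight M).mapHomologicalComplex (ComplexShape.up ℤ)).map φ') i) :=
    (quasiIsoAt_iff_isIso_homologyMap _ i).1 (h1.quasiIsoAt i)
  haveI : IsIso (HomologicalComplex.homologyMap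
      (((tensorRight M).mapHomologicalComplex (ComplexShape.up ℤ)).map (mapK (TensorA.ρ B X') (Ub g m.U) e₁.inv)) i) :=
    ((HomologicalComplex.homologyFunctor _ _ i).mapIso (asIso
      (((tensorRight M).mapHomologicalComplex (ComplexShape.up ℤ)).map (mapK (TensorA.ρ B X') (Ub g m.U) e₁.inv)))).isIso_hom
  infer_instance

include hsq in
/-- Right and left exactness pass to base changes. -/
theorem exactness_baseChange (F : X.Modules) (hF : Coh.IsCoh F)
    (hfl : FlatMod.IsFlatOver (X ↘ Spec (CommRingCat.of A)) F) (p : ℕ) :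
    ((CohIII.tensorAFunctor A F ⋙ CohIII.HAb X p).PreservesEpimorphisms →
        (CohIII.tensorAFunctor B ((Scheme.Modules.pullback g).obj F) ⋙ CohIII.HAb X' p).PreservesEpimorphisms) ∧
      ((CohIII.tensorAFunctor A F ⋙ CohIII.HAb X p).PreservesMonomorphisms →
        (CohIII.tensorAFunctor B ((Scheme.Modules.pullback g).obj F) ⋙ CohIII.HAb X' p).PreservesMonomorphisms) := by
  haveI : Coh.IsQCoh F := hF.1
  obtain ⟨m, hm⟩ := TensorA.exists_complex F hF hfl
  obtain ⟨e⟩ := hm p
  obtain ⟨e'⟩ := nonempty_iso_bc g hsq F m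
    (fun V hV => flat_sec (X ↘ Spec (CommRingCat.of A)) F hfl hV) p
  have hP' : ∀ i, Module.Flat B ((bc B m.L).X i) := fun i => flat_bc B m.L m.flat_X i
  have hn : (ComplexShape.up ℤ).next (p : ℤ) = (p : ℤ) + 1 := CochainComplex.next _ _
  have hn' : (ComplexShape.up ℤ).prev ((p : ℤ) + 1) = p := (ComplexShape.up ℤ).prev_eq' rfl
  have hp : (ComplexShape.up ℤ).prev (p : ℤ) = (p : ℤ) - 1 := CochainComplex.prev _ _
  constructor
  · rw [Exchange.preservesEpi_iff e, Exchange.preservesEpi_iff e', preservesEpi_iff m.L hn hn' m.flat_X,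
      preservesEpi_iff (bc B m.L) hn hn' hP']
    intro h
    obtain ⟨c⟩ := nonempty_coker_bc B m.L (p : ℤ) ((p : ℤ) + 1)
    exact Module.Flat.of_linearEquiv c
  · rw [Exchange.preservesMono_iff e, Exchange.preservesMono_iff e', preservesMono_iff m.L hp m.flat_X,
      preservesMono_iff (bc B m.L) hp hP']
    intro h
    obtain ⟨c⟩ := nonempty_coker_bc B m.L ((p : ℤ) - 1) (p : ℤ)
    exact Module.Flat.of_linearEquiv c

end Groth.L16.BaseChange
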